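import Cfsg.Agent.H0.EFi23J.D
set_option maxRecDepth 100000
set_option Elab.async false
set_option linter.unusedSectionVars false
namespace H0.EFi23J
open H0 BN 
theorem c0 : Model.fixP R [2, 1] [[27, 29, 30, 31, 32, 33, 36, 37, 38, 39, 40]] = true := by decide +kernel
theorem c1 : Model.growP R [[27, 29, 30, 31, 32, 33, 36, 37, 38, 39, 40]] [0] 3 2 = true := by decide +kernel
theorem c2 : Model.fixP R [1] [[23, 25, 35, 37, 38, 39, 40], [27, 29, 37, 38, 39], [28, 37, 40], [31, 35, 37, 38], [32, 35, 39, 40], [33, 35, 37, 40], [34, 35, 37, 38, 39, 40], [36, 37, 38, 40]] = true := by decide +kernel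
theorem c3 : Model.growP R [[23, 25, 35, 37, 38, 39, 40], [27, 29, 37, 38, 39], [28, 37, 40], [31, 35, 37, 38], [32, 35, 39, 40], [33, 35, 37, 40], [34, 35, 37, 38, 39, 40], [36, 37, 38, 40]] [0, 1, 2, 3, 4, 5, 6, 7] 2 256 = true := by decide +kernel
theorem c4 : Model.fixP R [] [[23], [24], [25], [26], [27], [28], [29]] = true := by decide +kernel
theorem c5 : Model.growP R [[23], [24], [25], [26], [27], [28], [29]] [0, 1, 2, 3, 4, 6, 0, 3, 2, 5, 4, 0] 1 512 = true := by decide +kernel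
theorem c6 : pairsB R [2, 20380, 6320, 1, 0] (((pcE 2 [23, 24, 25, 26, 27, 28, 29, 30, 31, 32, 33, 34, 35, 36, 37, 38, 39, 40] sW).drop 0).take 19) = true := by decide +kernel
theorem c7 : pairsB R [2, 20380, 6320, 1, 0] (((pcE 2 [23, 24, 25, 26, 27, 28, 29, 30, 31, 32, 33, 34, 35, 36, 37, 38, 39, 40] sW).drop 19).take 18) = true := by decide +kernel
theorem c8 : pairsB R [2, 20380, 6320, 1, 0] (((pcE 2 [23, 24, 25, 26, 27, 28, 29, 30, 31, 32, 33, 34, 35, 36, 37, 38, 39, 40] sW).drop 37).take 19) = true := by decide +kernel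
theorem c9 : pairsB R [2, 20380, 6320, 1, 0] (((pcE 2 [23, 24, 25, 26, 27, 28, 29, 30, 31, 32, 33, 34, 35, 36, 37, 38, 39, 40] sW).drop 56).take 23) = true := by decide +kernel
theorem c10 : pairsB R [2, 20380, 6320, 1, 0] (((pcE 2 [23, 24, 25, 26, 27, 28, 29, 30, 31, 32, 33, 34, 35, 36, 37, 38, 39, 40] sW).drop 79).take 23) = true := by decide +kernel
theorem c11 : pairsB R [2, 20380, 6320, 1, 0] (((pcE 2 [23, 24, 25, 26, 27, 28, 29, 30, 31, 32, 33, 34, 35, 36, 37, 38, 39, 40] sW).drop 102).take 36) = true := by decide +kernel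
theorem c12 : pairsB R [2, 20380, 6320, 1, 0] (((pcE 2 [23, 24, 25, 26, 27, 28, 29, 30, 31, 32, 33, 34, 35, 36, 37, 38, 39, 40] sW).drop 138).take 33) = true := by decide +kernel
end H0.EFi23J
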