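import Cfsg.Agent.H0.EFi23J.D
set_option maxRecDepth 100000
set_option Elab.async false
set_option linter.unusedSectionVars false
namespace H0.EFi23J
open H0 BN 
theorem c19 : allN (fun i => jvB 128 2048 8 4 [1, 2, 4, 8, 16, 32, 64, 128, 256, 512, 1024] ML 192912985115123766843304271563162988545 CM F (48 + i)) 8 = true := by decide +kernel
theorem c20 : allN (fun i => jvB 128 2048 8 4 [1, 2, 4, 8, 16, 32, 64, 128, 256, 512, 1024] ML 192912985115123766843304271563162988545 CM F (56 + i)) 8 = true := by decide +kernel
theorem c21 : allN (fun i => jvB 128 2048 8 4 [1, 2, 4, 8, 16, 32, 64, 128, 256, 512, 1024] ML 192912985115123766843304271563162988545 CM F (64 + i)) 8 = true := by decide +kernel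
theorem c22 : allN (fun i => jvB 128 2048 8 4 [1, 2, 4, 8, 16, 32, 64, 128, 256, 512, 1024] ML 192912985115123766843304271563162988545 CM F (72 + i)) 8 = true := by decide +kernel
theorem c23 : allN (fun i => jvB 128 2048 8 4 [1, 2, 4, 8, 16, 32, 64, 128, 256, 512, 1024] ML 192912985115123766843304271563162988545 CM F (80 + i)) 8 = true := by decide +kernel
theorem c24 : allN (fun i => jvB 128 2048 8 4 [1, 2, 4, 8, 16, 32, 64, 128, 256, 512, 1024] ML 192912985115123766843304271563162988545 CM F (88 + i)) 8 = true := by decide +kernel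
end H0.EFi23J
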