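import Cfsg.Agent.H0.EFi23J.D
set_option maxRecDepth 100000
set_option Elab.async false
set_option linter.unusedSectionVars false
namespace H0.EFi23J
open H0 BN 
theorem c25 : allN (fun i => jvB 128 2048 8 4 [1, 2, 4, 8, 16, 32, 64, 128, 256, 512, 1024] ML 192912985115123766843304271563162988545 CM F (96 + i)) 8 = true := by decide +kernel
theorem c26 : allN (fun i => jvB 128 2048 8 4 [1, 2, 4, 8, 16, 32, 64, 128, 256, 512, 1024] ML 192912985115123766843304271563162988545 CM F (104 + i)) 8 = true := by decide +kernel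
theorem c27 : allN (fun i => jvB 128 2048 8 4 [1, 2, 4, 8, 16, 32, 64, 128, 256, 512, 1024] ML 192912985115123766843304271563162988545 CM F (112 + i)) 8 = true := by decide +kernel
theorem c28 : allN (fun i => jvB 128 2048 8 4 [1, 2, 4, 8, 16, 32, 64, 128, 256, 512, 1024] ML 192912985115123766843304271563162988545 CM F (120 + i)) 8 = true := by decide +kernel
theorem c29 : allN (fun k => ML.getD k [] == colsW C [1, 2, 4, 8, 16, 32, 64, 128, 256, 512, 1024] (wd 2 [23, 24, 25, 26, 27, 28, 29] k)) 128 = true := by decide +kernel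
theorem c30 : pairsB R [2, 20380, 6320, 1, 0] (((jvE [23, 24, 25, 26, 27, 28, 29] [30, 31, 32, 33, 34, 35, 36, 37, 38, 39, 40] C [1, 2, 4, 8, 16, 32, 64, 128, 256, 512, 1024]).drop 0).take 39) = true := by decide +kernel
end H0.EFi23J
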