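import Cfsg.Agent.H0.EFi23J.D
set_option maxRecDepth 100000
set_option Elab.async false
set_option linter.unusedSectionVars false
namespace H0.EFi23J
open H0 BN 
theorem c31 : pairsB R [2, 20380, 6320, 1, 0] (((jvE [23, 24, 25, 26, 27, 28, 29] [30, 31, 32, 33, 34, 35, 36, 37, 38, 39, 40] C [1, 2, 4, 8, 16, 32, 64, 128, 256, 512, 1024]).drop 39).take 39) = true := by decide +kernel
theorem c32 : pairsB R [2, 20380, 6320, 1, 0] (((jvE [23, 24, 25, 26, 27, 28, 29] [30, 31, 32, 33, 34, 35, 36, 37, 38, 39, 40] C [1, 2, 4, 8, 16, 32, 64, 128, 256, 512, 1024]).drop 78).take 39) = true := by decide +kernel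
theorem c33 : pairsB R [2, 20380, 6320, 1, 0] (((jvE [23, 24, 25, 26, 27, 28, 29] [30, 31, 32, 33, 34, 35, 36, 37, 38, 39, 40] C [1, 2, 4, 8, 16, 32, 64, 128, 256, 512, 1024]).drop 117).take 35) = true := by decide +kernel
theorem c34 : pairsB R [2, 20380, 6320, 1, 0] (((jvE [23, 24, 25, 26, 27, 28, 29] [30, 31, 32, 33, 34, 35, 36, 37, 38, 39, 40] C [1, 2, 4, 8, 16, 32, 64, 128, 256, 512, 1024]).drop 152).take 24) = true := by decide +kernel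
theorem c35 : pairsB R [2, 20380, 6320, 1, 0] (((jvE [23, 24, 25, 26, 27, 28, 29] [30, 31, 32, 33, 34, 35, 36, 37, 38, 39, 40] C [1, 2, 4, 8, 16, 32, 64, 128, 256, 512, 1024]).drop 176).take 25) = true := by decide +kernel
theorem c36 : pairsB R [2, 20380, 6320, 1, 0] (((jvE [23, 24, 25, 26, 27, 28, 29] [30, 31, 32, 33, 34, 35, 36, 37, 38, 39, 40] C [1, 2, 4, 8, 16, 32, 64, 128, 256, 512, 1024]).drop 201).take 19) = true := by decide +kernel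
theorem c37 : eqW R 0 5 [40] [12, 12, 12, 13, 13, 12, 13, 12, 13, 12, 13, 13, 12, 13, 15, 15, 15, 15, 15, 14, 15, 14, 15, 15, 14, 15, 14, 15, 15, 14, 17, 17, 17, 16, 17, 18, 17, 16, 21, 20] = true := by decide +kernel
theorem c38 : eqW R 5 5 [40] [12, 12, 12, 13, 13, 12, 13, 12, 13, 12, 13, 13, 12, 13, 15, 15, 15, 15, 15, 14, 15, 14, 15, 15, 14, 15, 14, 15, 15, 14, 17, 17, 17, 16, 17, 18, 17, 16, 21, 20] = true := by decide +kernel
theorem c39 : eqW R 10 5 [40] [12, 12, 12, 13, 13, 12, 13, 12, 13, 12, 13, 13, 12, 13, 15, 15, 15, 15, 15, 14, 15, 14, 15, 15, 14, 15, 14, 15, 15, 14, 17, 17, 17, 16, 17, 18, 17, 16, 21, 20] = true := by decide +kernel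
theorem c40 : eqW R 0 5 [39] [13, 12, 13, 12, 13, 13, 13, 13, 12, 13, 12, 13, 13, 15, 14, 15, 15, 14, 14, 14, 15, 15, 15, 15, 14, 15, 16, 16, 18, 18, 16, 17, 18, 16, 16, 21, 20, 20, 19] = true := by decide +kernel
theorem c41 : eqW R 5 5 [39] [13, 12, 13, 12, 13, 13, 13, 13, 12, 13, 12, 13, 13, 15, 14, 15, 15, 14, 14, 14, 15, 15, 15, 15, 14, 15, 16, 16, 18, 18, 16, 17, 18, 16, 16, 21, 20, 20, 19] = true := by decide +kernel
theorem c42 : eqW R 10 5 [39] [13, 12, 13, 12, 13, 13, 13, 13, 12, 13, 12, 13, 13, 15, 14, 15, 15, 14, 14, 14, 15, 15, 15, 15, 14, 15, 16, 16, 18, 18, 16, 17, 18, 16, 16, 21, 20, 20, 19] = true := by decide +kernel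
theorem c43 : eqW R 0 5 [38] [13, 12, 13, 13, 12, 12, 12, 12, 12, 12, 13, 13, 12, 13, 12, 12, 14, 15, 14, 14, 14, 14, 15, 14, 14, 14, 15, 14, 14, 18, 18, 16, 18, 16, 16, 16, 18, 21, 21, 20, 20, 19, 19] = true := by decide +kernel
theorem c44 : eqW R 5 5 [38] [13, 12, 13, 13, 12, 12, 12, 12, 12, 12, 13, 13, 12, 13, 12, 12, 14, 15, 14, 14, 14, 14, 15, 14, 14, 14, 15, 14, 14, 18, 18, 16, 18, 16, 16, 16, 18, 21, 21, 20, 20, 19, 19] = true := by decide +kernel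
theorem c45 : eqW R 10 5 [38] [13, 12, 13, 13, 12, 12, 12, 12, 12, 12, 13, 13, 12, 13, 12, 12, 14, 15, 14, 14, 14, 14, 15, 14, 14, 14, 15, 14, 14, 18, 18, 16, 18, 16, 16, 16, 18, 21, 21, 20, 20, 19, 19] = true := by decide +kernel
theorem c46 : eqW R 0 5 [37] [12, 13, 13, 13, 12, 13, 12, 12, 12, 12, 12, 13, 13, 12, 14, 15, 14, 14, 14, 14, 15, 15, 15, 15, 14, 15, 14, 18, 16, 17, 18, 18, 18, 17, 16, 21, 21, 20] = true := by decide +kernel
theorem c47 : eqW R 5 5 [37] [12, 13, 13, 13, 12, 13, 12, 12, 12, 12, 12, 13, 13, 12, 14, 15, 14, 14, 14, 14, 15, 15, 15, 15, 14, 15, 14, 18, 16, 17, 18, 18, 18, 17, 16, 21, 21, 20] = true := by decide +kernel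
theorem c48 : eqW R 10 5 [37] [12, 13, 13, 13, 12, 13, 12, 12, 12, 12, 12, 13, 13, 12, 14, 15, 14, 14, 14, 14, 15, 15, 15, 15, 14, 15, 14, 18, 16, 17, 18, 18, 18, 17, 16, 21, 21, 20] = true := by decide +kernel
theorem c49 : eqW R 0 5 [36] [13, 13, 13, 12, 12, 13, 12, 12, 13, 12, 12, 13, 13, 15, 14, 15, 15, 14, 15, 14, 15, 15, 14, 15, 14, 14, 17, 18, 18, 18, 18, 19] = true := by decide +kernel
theorem c50 : eqW R 5 5 [36] [13, 13, 13, 12, 12, 13, 12, 12, 13, 12, 12, 13, 13, 15, 14, 15, 15, 14, 15, 14, 15, 15, 14, 15, 14, 14, 17, 18, 18, 18, 18, 19] = true := by decide +kernel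
theorem c51 : eqW R 10 5 [36] [13, 13, 13, 12, 12, 13, 12, 12, 13, 12, 12, 13, 13, 15, 14, 15, 15, 14, 15, 14, 15, 15, 14, 15, 14, 14, 17, 18, 18, 18, 18, 19] = true := by decide +kernel
theorem c52 : eqW R 0 5 [35] [12, 12, 13, 13, 12, 13, 13, 12, 13, 13, 13, 12, 12, 12, 13, 12, 14, 14, 15, 15, 14, 15, 14, 15, 14, 14, 14, 15, 14, 14, 14, 17, 16, 17, 16, 17, 16, 21, 21, 20, 19, 19] = true := by decide +kernel
theorem c53 : eqW R 5 5 [35] [12, 12, 13, 13, 12, 13, 13, 12, 13, 13, 13, 12, 12, 12, 13, 12, 14, 14, 15, 15, 14, 15, 14, 15, 14, 14, 14, 15, 14, 14, 14, 17, 16, 17, 16, 17, 16, 21, 21, 20, 19, 19] = true := by decide +kernel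
theorem c54 : eqW R 10 5 [35] [12, 12, 13, 13, 12, 13, 13, 12, 13, 13, 13, 12, 12, 12, 13, 12, 14, 14, 15, 15, 14, 15, 14, 15, 14, 14, 14, 15, 14, 14, 14, 17, 16, 17, 16, 17, 16, 21, 21, 20, 19, 19] = true := by decide +kernel
theorem c55 : eqW R 0 5 [34] [12, 13, 13, 12, 12, 13, 13, 13, 12, 12, 13, 15, 15, 15, 15, 15, 15, 14, 15, 15, 15, 14, 14, 14, 17, 17, 17, 17, 18, 18, 17, 17, 21, 21, 19, 19] = true := by decide +kernel
theorem c56 : eqW R 5 5 [34] [12, 13, 13, 12, 12, 13, 13, 13, 12, 12, 13, 15, 15, 15, 15, 15, 15, 14, 15, 15, 15, 14, 14, 14, 17, 17, 17, 17, 18, 18, 17, 17, 21, 21, 19, 19] = true := by decide +kernel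
theorem c57 : eqW R 10 5 [34] [12, 13, 13, 12, 12, 13, 13, 13, 12, 12, 13, 15, 15, 15, 15, 15, 15, 14, 15, 15, 15, 14, 14, 14, 17, 17, 17, 17, 18, 18, 17, 17, 21, 21, 19, 19] = true := by decide +kernel
theorem c58 : eqW R 0 5 [33] [13, 12, 13, 13, 12, 12, 12, 13, 12, 13, 13, 13, 12, 12, 14, 14, 15, 15, 14, 15, 14, 15, 14, 14, 15, 16, 18, 16, 17, 17, 16, 17, 18, 21, 21, 20, 20, 19] = true := by decide +kernel
theorem c59 : eqW R 5 5 [33] [13, 12, 13, 13, 12, 12, 12, 13, 12, 13, 13, 13, 12, 12, 14, 14, 15, 15, 14, 15, 14, 15, 14, 14, 15, 16, 18, 16, 17, 17, 16, 17, 18, 21, 21, 20, 20, 19] = true := by decide +kernel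
theorem c60 : eqW R 10 5 [33] [13, 12, 13, 13, 12, 12, 12, 13, 12, 13, 13, 13, 12, 12, 14, 14, 15, 15, 14, 15, 14, 15, 14, 14, 15, 16, 18, 16, 17, 17, 16, 17, 18, 21, 21, 20, 20, 19] = true := by decide +kernel
theorem c61 : eqW R 0 5 [32] [12, 12, 13, 13, 12, 12, 13, 12, 12, 12, 13, 13, 13, 12, 14, 15, 14, 15, 14, 14, 14, 14, 15, 14, 15, 15, 15, 14, 17, 18, 17, 18, 17, 16, 16, 20, 20, 19, 19] = true := by decide +kernel
theorem c62 : eqW R 5 5 [32] [12, 12, 13, 13, 12, 12, 13, 12, 12, 12, 13, 13, 13, 12, 14, 15, 14, 15, 14, 14, 14, 14, 15, 14, 15, 15, 15, 14, 17, 18, 17, 18, 17, 16, 16, 20, 20, 19, 19] = true := by decide +kernel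
theorem c63 : eqW R 10 5 [32] [12, 12, 13, 13, 12, 12, 13, 12, 12, 12, 13, 13, 13, 12, 14, 15, 14, 15, 14, 14, 14, 14, 15, 14, 15, 15, 15, 14, 17, 18, 17, 18, 17, 16, 16, 20, 20, 19, 19] = true := by decide +kernel
theorem c64 : eqW R 0 5 [31] [12, 12, 12, 13, 13, 12, 13, 12, 13, 13, 12, 12, 12, 12, 15, 14, 14, 14, 14, 15, 14, 15, 14, 14, 15, 18, 17, 17, 16, 16, 17, 17, 16, 16, 20, 20, 19, 19] = true := by decide +kernel
theorem c65 : eqW R 5 5 [31] [12, 12, 12, 13, 13, 12, 13, 12, 13, 13, 12, 12, 12, 12, 15, 14, 14, 14, 14, 15, 14, 15, 14, 14, 15, 18, 17, 17, 16, 16, 17, 17, 16, 16, 20, 20, 19, 19] = true := by decide +kernel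
theorem c66 : eqW R 10 5 [31] [12, 12, 12, 13, 13, 12, 13, 12, 13, 13, 12, 12, 12, 12, 15, 14, 14, 14, 14, 15, 14, 15, 14, 14, 15, 18, 17, 17, 16, 16, 17, 17, 16, 16, 20, 20, 19, 19] = true := by decide +kernel
theorem c67 : eqW R 0 5 [30] [13, 13, 12, 13, 12, 13, 13, 12, 13, 12, 12, 12, 13, 15, 15, 15, 14, 15, 14, 14, 14, 15, 14, 14, 15, 18, 18, 17, 17, 18, 18, 18, 20, 20, 19, 19] = true := by decide +kernel
theorem c68 : eqW R 5 5 [30] [13, 13, 12, 13, 12, 13, 13, 12, 13, 12, 12, 12, 13, 15, 15, 15, 14, 15, 14, 14, 14, 15, 14, 14, 15, 18, 18, 17, 17, 18, 18, 18, 20, 20, 19, 19] = true := by decide +kernel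
theorem c69 : eqW R 10 5 [30] [13, 13, 12, 13, 12, 13, 13, 12, 13, 12, 12, 12, 13, 15, 15, 15, 14, 15, 14, 14, 14, 15, 14, 14, 15, 18, 18, 17, 17, 18, 18, 18, 20, 20, 19, 19] = true := by decide +kernel
theorem c70 : eqW R 0 5 [29] [12, 13, 13, 13, 12, 13, 12, 12, 13, 13, 15, 14, 14, 15, 15, 15, 14, 15, 15, 15, 15, 15, 14, 15, 15, 16, 18, 18, 17, 17, 17, 16, 16, 21, 21, 20, 20] = true := by decide +kernel
theorem c71 : eqW R 5 5 [29] [12, 13, 13, 13, 12, 13, 12, 12, 13, 13, 15, 14, 14, 15, 15, 15, 14, 15, 15, 15, 15, 15, 14, 15, 15, 16, 18, 18, 17, 17, 17, 16, 16, 21, 21, 20, 20] = true := by decide +kernel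
theorem c72 : eqW R 10 5 [29] [12, 13, 13, 13, 12, 13, 12, 12, 13, 13, 15, 14, 14, 15, 15, 15, 14, 15, 15, 15, 15, 15, 14, 15, 15, 16, 18, 18, 17, 17, 17, 16, 16, 21, 21, 20, 20] = true := by decide +kernel
theorem c73 : eqW R 0 5 [28] [13, 12, 12, 12, 12, 13, 12, 13, 12, 12, 13, 12, 12, 12, 14, 14, 14, 15, 15, 15, 15, 14, 14, 14, 15, 15, 15, 14, 18, 16, 18, 17, 16, 17, 16, 16, 16, 21, 20, 20, 19, 19] = true := by decide +kernel
theorem c74 : eqW R 5 5 [28] [13, 12, 12, 12, 12, 13, 12, 13, 12, 12, 13, 12, 12, 12, 14, 14, 14, 15, 15, 15, 15, 14, 14, 14, 15, 15, 15, 14, 18, 16, 18, 17, 16, 17, 16, 16, 16, 21, 20, 20, 19, 19] = true := by decide +kernel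
theorem c75 : eqW R 10 5 [28] [13, 12, 12, 12, 12, 13, 12, 13, 12, 12, 13, 12, 12, 12, 14, 14, 14, 15, 15, 15, 15, 14, 14, 14, 15, 15, 15, 14, 18, 16, 18, 17, 16, 17, 16, 16, 16, 21, 20, 20, 19, 19] = true := by decide +kernel
theorem c76 : eqW R 0 5 [27] [12, 12, 12, 12, 13, 13, 12, 12, 13, 13, 13, 13, 12, 13, 14, 15, 14, 14, 15, 14, 14, 14, 14, 14, 15, 14, 17, 18, 17, 18, 17, 16, 18, 17, 16, 21, 21, 20, 20] = true := by decide +kernel
theorem c77 : eqW R 5 5 [27] [12, 12, 12, 12, 13, 13, 12, 12, 13, 13, 13, 13, 12, 13, 14, 15, 14, 14, 15, 14, 14, 14, 14, 14, 15, 14, 17, 18, 17, 18, 17, 16, 18, 17, 16, 21, 21, 20, 20] = true := by decide +kernel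
theorem c78 : eqW R 10 5 [27] [12, 12, 12, 12, 13, 13, 12, 12, 13, 13, 13, 13, 12, 13, 14, 15, 14, 14, 15, 14, 14, 14, 14, 14, 15, 14, 17, 18, 17, 18, 17, 16, 18, 17, 16, 21, 21, 20, 20] = true := by decide +kernel
theorem c79 : eqW R 0 5 [26] [12, 12, 12, 12, 12, 13, 13, 12, 12, 13, 12, 13, 13, 12, 14, 15, 14, 14, 14, 14, 15, 14, 14, 15, 15, 16, 17, 18, 16, 16, 16, 18, 18, 16, 21, 21, 19] = true := by decide +kernel
theorem c80 : eqW R 5 5 [26] [12, 12, 12, 12, 12, 13, 13, 12, 12, 13, 12, 13, 13, 12, 14, 15, 14, 14, 14, 14, 15, 14, 14, 15, 15, 16, 17, 18, 16, 16, 16, 18, 18, 16, 21, 21, 19] = true := by decide +kernel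
theorem c81 : eqW R 10 5 [26] [12, 12, 12, 12, 12, 13, 13, 12, 12, 13, 12, 13, 13, 12, 14, 15, 14, 14, 14, 14, 15, 14, 14, 15, 15, 16, 17, 18, 16, 16, 16, 18, 18, 16, 21, 21, 19] = true := by decide +kernel
theorem c82 : eqW R 0 5 [25] [12, 12, 12, 13, 13, 13, 13, 13, 13, 12, 13, 13, 13, 12, 15, 15, 14, 15, 15, 14, 15, 15, 14, 14, 15, 14, 15, 15, 16, 17, 17, 18, 17, 21] = true := by decide +kernel
theorem c83 : eqW R 5 5 [25] [12, 12, 12, 13, 13, 13, 13, 13, 13, 12, 13, 13, 13, 12, 15, 15, 14, 15, 15, 14, 15, 15, 14, 14, 15, 14, 15, 15, 16, 17, 17, 18, 17, 21] = true := by decide +kernel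
theorem c84 : eqW R 10 5 [25] [12, 12, 12, 13, 13, 13, 13, 13, 13, 12, 13, 13, 13, 12, 15, 15, 14, 15, 15, 14, 15, 15, 14, 14, 15, 14, 15, 15, 16, 17, 17, 18, 17, 21] = true := by decide +kernel
theorem c85 : eqW R 0 5 [24] [12, 12, 12, 12, 12, 12, 13, 13, 13, 15, 14, 15, 14, 14, 14, 15, 15, 15, 14, 15, 15, 15, 14, 14, 15, 17, 16, 16, 18, 16, 18, 16, 17, 19, 19] = true := by decide +kernel
theorem c86 : eqW R 5 5 [24] [12, 12, 12, 12, 12, 12, 13, 13, 13, 15, 14, 15, 14, 14, 14, 15, 15, 15, 14, 15, 15, 15, 14, 14, 15, 17, 16, 16, 18, 16, 18, 16, 17, 19, 19] = true := by decide +kernel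
theorem c87 : eqW R 10 5 [24] [12, 12, 12, 12, 12, 12, 13, 13, 13, 15, 14, 15, 14, 14, 14, 15, 15, 15, 14, 15, 15, 15, 14, 14, 15, 17, 16, 16, 18, 16, 18, 16, 17, 19, 19] = true := by decide +kernel
theorem c88 : eqW R 0 5 [23] [12, 12, 12, 13, 13, 13, 13, 13, 12, 13, 13, 12, 12, 12, 13, 12, 14, 14, 15, 15, 15, 15, 14, 15, 14, 15, 15, 14, 17, 16, 17, 18, 17, 16, 16, 17, 18, 16, 21, 21, 20, 20, 19] = true := by decide +kernel
end H0.EFi23J
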