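import Cfsg.Agent.H0.EFi23J.D
set_option maxRecDepth 100000
set_option Elab.async false
set_option linter.unusedSectionVars false
namespace H0.EFi23J
open H0 BN 
theorem c89 : eqW R 5 5 [23] [12, 12, 12, 13, 13, 13, 13, 13, 12, 13, 13, 12, 12, 12, 13, 12, 14, 14, 15, 15, 15, 15, 14, 15, 14, 15, 15, 14, 17, 16, 17, 18, 17, 16, 16, 17, 18, 16, 21, 21, 20, 20, 19] = true := by decide +kernel
theorem c90 : eqW R 10 5 [23] [12, 12, 12, 13, 13, 13, 13, 13, 12, 13, 13, 12, 12, 12, 13, 12, 14, 14, 15, 15, 15, 15, 14, 15, 14, 15, 15, 14, 17, 16, 17, 18, 17, 16, 16, 17, 18, 16, 21, 21, 20, 20, 19] = true := by decide +kernel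
end H0.EFi23J
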