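import Cfsg.Agent.H0.EFi23J.K0
import Cfsg.Agent.H0.EFi23J.K1
import Cfsg.Agent.H0.EFi23J.K2
import Cfsg.Agent.H0.EFi23J.K3
import Cfsg.Agent.H0.EFi23J.K4
import Cfsg.Agent.H0.EFi23J.K5
set_option maxRecDepth 100000
set_option Elab.async false
set_option linter.unusedSectionVars false
namespace H0.EFi23J
open H0 BN 
theorem defs_ok : DefsOK R.p defs 23 := (defsOK_cons (eq_of_bits R (eqb_step R (eqb_step R (eqb_step R (eqb_zero R [23] [12, 12, 12, 13, 13, 13, 13, 13, 12, 13, 13, 12, 12, 12, 13, 12, 14, 14, 15, 15, 15, 15, 14, 15, 14, 15, 15, 14, 17, 16, 17, 18, 17, 16, 16, 17, 18, 16, 21, 21, 20, 20, 19]) c88) c89) c90)) (by decide) (defsOK_cons (eq_of_bits R (eqb_step R (eqb_step R (eqb_step R (eqb_zero R [24] [12, 12, 12, 12, 12, 12, 13, 13, 13, 15, 14, 15, 14, 14, 14, 15, 15, 15, 14, 15, 15, 15, 14, 14, 15, 17, 16, 16, 18, 16, 18, 16, 17, 19, 19]) c85) c86) c87)) (by decide) (defsOK_cons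 (eq_of_bits R (eqb_step R (eqb_step R (eqb_step R (eqb_zero R [25] [12, 12, 12, 13, 13, 13, 13, 13, 13, 12, 13, 13, 13, 12, 15, 15, 14, 15, 15, 14, 15, 15, 14, 14, 15, 14, 15, 15, 16, 17, 17, 18, 17, 21]) c82) c83) c84)) (by decide) (defsOK_cons (eq_of_bits R (eqb_step R (eqb_step R (eqb_step R (eqb_zero R [26] [12, 12, 12, 12, 12, 13, 13, 12, 12, 13, 12, 13, 13, 12, 14, 15, 14, 14, 14, 14, 15, 14, 14, 15, 15, 16, 17, 18, 16, 16, 16, 18, 18, 16, 21, 21, 19]) c79) c80) c81)) (by decide) (defsOK_cons (eq_of_bits R (eqb_step R (eqb_step R (eqb_step R (eqb_zero R [27] [12, 12, 12, 12, 13, 13, 12, 12, 13, 13, 13, 13, 12, 13, 14, 15, 14, 14, 15, 14, 14, 14, 14, 14, 15, 14, 17, 18, 17, 18, 17, 16, 18, 17, 16, 21, 21, 20, 20]) c76) c77) c78)) (by decide) (defsOK_cons (eq_of_bits R (eqb_step R (eqb_step R (eqb_step R (eqb_zero R [28] [13, 12, 12, 12, 12, 13, 12, 13, 12, 12, 13, 12, 12, 12, 14,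 14, 14, 15, 15, 15, 15, 14, 14, 14, 15, 15, 15, 14, 18, 16, 18, 17, 16, 17, 16, 16, 16, 21, 20, 20, 19, 19]) c73) c74) c75)) (by decide) (defsOK_cons (eq_of_bits R (eqb_step R (eqb_step R (eqb_step R (eqb_zero R [29] [12, 13, 13, 13, 12, 13, 12, 12, 13, 13, 15, 14, 14, 15, 15, 15, 14, 15, 15, 15, 15, 15, 14, 15, 15, 16, 18, 18, 17, 17, 17, 16, 16, 21, 21, 20, 20]) c70) c71) c72)) (by decide) (defsOK_cons (eq_of_bits R (eqb_step R (eqb_step R (eqb_step R (eqb_zero R [30] [13, 13, 12, 13, 12, 13, 13, 12, 13, 12, 12, 12, 13, 15, 15, 15, 14, 15, 14, 14, 14, 15, 14, 14, 15, 18, 18, 17, 17, 18, 18, 18, 20, 20, 19, 19]) c67) c68) c69)) (by decide) (defsOK_cons (eq_of_bits R (eqb_step R (eqb_step R (eqb_step R (eqb_zero R [31] [12, 12, 12, 13, 13, 12, 13, 12, 13, 13, 12, 12, 12, 12, 15, 14, 14, 14, 14, 15, 14, 15, 14, 14, 15, 18, 17, 17, 16, 16, 17, 17, 16, 16, 20, 20, 19, 19]) c64) c65) c66))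 (by decide) (defsOK_cons (eq_of_bits R (eqb_step R (eqb_step R (eqb_step R (eqb_zero R [32] [12, 12, 13, 13, 12, 12, 13, 12, 12, 12, 13, 13, 13, 12, 14, 15, 14, 15, 14, 14, 14, 14, 15, 14, 15, 15, 15, 14, 17, 18, 17, 18, 17, 16, 16, 20, 20, 19, 19]) c61) c62) c63)) (by decide) (defsOK_cons (eq_of_bits R (eqb_step R (eqb_step R (eqb_step R (eqb_zero R [33] [13, 12, 13, 13, 12, 12, 12, 13, 12, 13, 13, 13, 12, 12, 14, 14, 15, 15, 14, 15, 14, 15, 14, 14, 15, 16, 18, 16, 17, 17, 16, 17, 18, 21, 21, 20, 20, 19]) c58) c59) c60)) (by decide) (defsOK_cons (eq_of_bits R (eqb_step R (eqb_step R (eqb_step R (eqb_zero R [34] [12, 13, 13, 12, 12, 13, 13, 13, 12, 12, 13, 15, 15, 15, 15, 15, 15, 14, 15, 15, 15, 14, 14, 14, 17, 17, 17, 17, 18, 18, 17, 17, 21, 21, 19, 19]) c55) c56) c57)) (by decide) (defsOK_cons (eq_of_bits R (eqb_step R (eqb_step R (eqb_step R (eqb_zero R [35] [12, 12, 13, 13, 12, 13,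 13, 12, 13, 13, 13, 12, 12, 12, 13, 12, 14, 14, 15, 15, 14, 15, 14, 15, 14, 14, 14, 15, 14, 14, 14, 17, 16, 17, 16, 17, 16, 21, 21, 20, 19, 19]) c52) c53) c54)) (by decide) (defsOK_cons (eq_of_bits R (eqb_step R (eqb_step R (eqb_step R (eqb_zero R [36] [13, 13, 13, 12, 12, 13, 12, 12, 13, 12, 12, 13, 13, 15, 14, 15, 15, 14, 15, 14, 15, 15, 14, 15, 14, 14, 17, 18, 18, 18, 18, 19]) c49) c50) c51)) (by decide) (defsOK_cons (eq_of_bits R (eqb_step R (eqb_step R (eqb_step R (eqb_zero R [37] [12, 13, 13, 13, 12, 13, 12, 12, 12, 12, 12, 13, 13, 12, 14, 15, 14, 14, 14, 14, 15, 15, 15, 15, 14, 15, 14, 18, 16, 17, 18, 18, 18, 17, 16, 21, 21, 20]) c46) c47) c48)) (by decide) (defsOK_cons (eq_of_bits R (eqb_step R (eqb_step R (eqb_step R (eqb_zero R [38] [13, 12, 13, 13, 12, 12, 12, 12, 12, 12, 13, 13, 12, 13, 12, 12, 14, 15, 14, 14, 14, 14, 15, 14, 14, 14, 15, 14, 14, 18, 18, 16, 18, 16, 16, 16,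 18, 21, 21, 20, 20, 19, 19]) c43) c44) c45)) (by decide) (defsOK_cons (eq_of_bits R (eqb_step R (eqb_step R (eqb_step R (eqb_zero R [39] [13, 12, 13, 12, 13, 13, 13, 13, 12, 13, 12, 13, 13, 15, 14, 15, 15, 14, 14, 14, 15, 15, 15, 15, 14, 15, 16, 16, 18, 18, 16, 17, 18, 16, 16, 21, 20, 20, 19]) c40) c41) c42)) (by decide) (defsOK_cons (eq_of_bits R (eqb_step R (eqb_step R (eqb_step R (eqb_zero R [40] [12, 12, 12, 13, 13, 12, 13, 12, 13, 12, 13, 13, 12, 13, 15, 15, 15, 15, 15, 14, 15, 14, 15, 15, 14, 15, 14, 15, 15, 14, 17, 17, 17, 16, 17, 18, 17, 16, 21, 20]) c37) c38) c39)) (by decide) (defsOK_nil _ _)))))))))))))))))))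
universe u
variable {G : Type u} [Group G] [Finite G] (m0 : Model G) (h0 : m0.R = H0.MFi23.R)
noncomputable def m : Model G := m0.ext (lg := nat_lit 15) (N := nat_lit 32768) (l := H0.MFi23.nl) h0 nl nl_ok 23 rfl defs defs_ok (by decide +kernel)
theorem mR : (m m0 h0).R = R := rfl
variable (hb : m0.pst [2, 20380, 6320, 1, 0] = ⊥) (hc : Nat.card G = 4089470473293004800)
include h0 hb hc
theorem base : (m m0 h0).pst [2, 20380, 6320, 1, 0] = ⊥ := hb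
omit hb hc in
theorem geq {x : ℕ} (h : x < 23) : (m m0 h0).g x = m0.g x := m0.ext_g h0 _ _ _ _ _ _ _ h
omit hb hc in
theorem sch_ok : (m m0 h0).ChainOK sch [] := ((m m0 h0).chain_cons [0, 1, 2, 3, 4, 6, 0, 3, 2, 5, 4, 0] (Model.via _ (mR m0 h0) (fun R => Model.fixP R [] [[23], [24], [25], [26], [27], [28], [29]]) c4) (Model.via _ (mR m0 h0) (fun R => Model.growP R [[23], [24], [25], [26], [27], [28], [29]] [0, 1, 2, 3, 4, 6, 0, 3, 2, 5, 4, 0] 1 512) c5) ((m m0 h0).chain_cons [0, 1, 2, 3, 4, 5, 6, 7] (Model.via _ (mR m0 h0) (fun R => Model.fixP R [1] [[23, 25, 35, 37, 38, 39, 40], [27, 29, 37, 38, 39], [28, 37, 40], [31, 35, 37, 38], [32, 35, 39, 40], [33, 35, 37, 40], [34, 35, 37, 38, 39, 40], [36, 37, 38, 40]]) c2) (Model.via _ (mR m0 h0) (fun R => Model.growP R [[23, 25, 35, 37, 38, 39, 40], [27, 29, 37, 38, 39], [28, 37, 40], [31, 35, 37, 38], [32, 35, 39, 40], [33, 35, 37, 40], [34,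 35, 37, 38, 39, 40], [36, 37, 38, 40]] [0, 1, 2, 3, 4, 5, 6, 7] 2 256) c3) ((m m0 h0).chain_cons [0] (Model.via _ (mR m0 h0) (fun R => Model.fixP R [2, 1] [[27, 29, 30, 31, 32, 33, 36, 37, 38, 39, 40]]) c0) (Model.via _ (mR m0 h0) (fun R => Model.growP R [[27, 29, 30, 31, 32, 33, 36, 37, 38, 39, 40]] [0] 3 2) c1) ((m m0 h0).chain_nil _))))
theorem sE : ∀ e ∈ pcE 2 [23, 24, 25, 26, 27, 28, 29, 30, 31, 32, 33, 34, 35, 36, 37, 38, 39, 40] sW, ev (m m0 h0).g e.1 = ev (m m0 h0).g e.2 := (all_take_done (all_take_step (all_take_step (all_take_step (all_take_step (all_take_step (all_take_step (all_take_step (all_take_zero _ (pcE 2 [23, 24, 25, 26, 27, 28, 29, 30, 31, 32, 33, 34, 35, 36, 37, 38, 39, 40] sW)) ((m m0 h0).pairs_of (base m0 h0 hb hc) (Model.via _ (mR m0 h0) (fun R => pairsB R [2, 20380, 6320, 1, 0] (((pcE 2 [23, 24, 25, 26, 27, 28, 29, 30, 31, 32, 33, 34, 35, 36, 37, 38, 39, 40] sW).drop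 0).take 19)) c6))) ((m m0 h0).pairs_of (base m0 h0 hb hc) (Model.via _ (mR m0 h0) (fun R => pairsB R [2, 20380, 6320, 1, 0] (((pcE 2 [23, 24, 25, 26, 27, 28, 29, 30, 31, 32, 33, 34, 35, 36, 37, 38, 39, 40] sW).drop 19).take 18)) c7))) ((m m0 h0).pairs_of (base m0 h0 hb hc) (Model.via _ (mR m0 h0) (fun R => pairsB R [2, 20380, 6320, 1, 0] (((pcE 2 [23, 24, 25, 26, 27, 28, 29, 30, 31, 32, 33, 34, 35, 36, 37, 38, 39, 40] sW).drop 37).take 19)) c8))) ((m m0 h0).pairs_of (base m0 h0 hb hc) (Model.via _ (mR m0 h0) (fun R => pairsB R [2, 20380, 6320, 1, 0] (((pcE 2 [23, 24, 25, 26, 27, 28, 29, 30, 31, 32, 33, 34, 35, 36, 37, 38, 39, 40] sW).drop 56).take 23)) c9))) ((m m0 h0).pairs_of (base m0 h0 hb hc) (Model.via _ (mR m0 h0) (fun R => pairsB R [2, 20380, 6320, 1, 0] (((pcE 2 [23, 24, 25, 26, 27, 28, 29, 30, 31, 32, 33, 34, 35, 36, 37, 38, 39, 40] sW).drop 79).take 23)) c10))) ((m m0 h0).pairs_of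 (base m0 h0 hb hc) (Model.via _ (mR m0 h0) (fun R => pairsB R [2, 20380, 6320, 1, 0] (((pcE 2 [23, 24, 25, 26, 27, 28, 29, 30, 31, 32, 33, 34, 35, 36, 37, 38, 39, 40] sW).drop 102).take 36)) c11))) ((m m0 h0).pairs_of (base m0 h0 hb hc) (Model.via _ (mR m0 h0) (fun R => pairsB R [2, 20380, 6320, 1, 0] (((pcE 2 [23, 24, 25, 26, 27, 28, 29, 30, 31, 32, 33, 34, 35, 36, 37, 38, 39, 40] sW).drop 138).take 33)) c12))) (by decide +kernel))
omit hb hc in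
theorem slow : 2 ^ [23, 24, 25, 26, 27, 28, 29, 30, 31, 32, 33, 34, 35, 36, 37, 38, 39, 40].length ≤ Nat.card (gl (m m0 h0).g [23, 24, 25, 26, 27, 28, 29, 30, 31, 32, 33, 34, 35, 36, 37, 38, 39, 40]) :=
  (by decide +kernel : _ ≤ Model.cprod sch).trans ((m m0 h0).chain_card (sch_ok m0 h0) (gen_le fun w hw => mem_gl _ (List.all_eq_true.1 (by decide +kernel : (Model.cgens sch).all (·.all [23, 24, 25, 26, 27, 28, 29, 30, 31, 32, 33, 34, 35, 36, 37, 38, 39, 40].contains) = true) w hw)))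
theorem i1 : ∀ e ∈ jvE [23, 24, 25, 26, 27, 28, 29] [30, 31, 32, 33, 34, 35, 36, 37, 38, 39, 40] C [1, 2, 4, 8, 16, 32, 64, 128, 256, 512, 1024], ev (m m0 h0).g e.1 = ev (m m0 h0).g e.2 := (all_take_done (all_take_step (all_take_step (all_take_step (all_take_step (all_take_step (all_take_step (all_take_step (all_take_zero _ (jvE [23, 24, 25, 26, 27, 28, 29] [30, 31, 32, 33, 34, 35, 36, 37, 38, 39, 40] C [1, 2, 4, 8, 16, 32, 64, 128, 256, 512, 1024])) ((m m0 h0).pairs_of (base m0 h0 hb hc) (Model.via _ (mR m0 h0) (fun R => pairsB R [2, 20380, 6320, 1, 0] (((jvE [23, 24, 25, 26, 27, 28, 29] [30, 31, 32, 33, 34, 35, 36, 37, 38, 39, 40] C [1, 2, 4, 8, 16, 32, 64, 128, 256, 512, 1024]).drop 0).take 39)) c30))) ((m m0 h0).pairs_of (base m0 h0 hb hc) (Model.via _ (mR m0 h0) (fun R => pairsB R [2, 20380, 6320, 1, 0] (((jvE [23, 24, 25, 26, 27, 28, 29] [30, 31, 32, 33, 34, 35, 36, 37, 38, 39,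 40] C [1, 2, 4, 8, 16, 32, 64, 128, 256, 512, 1024]).drop 39).take 39)) c31))) ((m m0 h0).pairs_of (base m0 h0 hb hc) (Model.via _ (mR m0 h0) (fun R => pairsB R [2, 20380, 6320, 1, 0] (((jvE [23, 24, 25, 26, 27, 28, 29] [30, 31, 32, 33, 34, 35, 36, 37, 38, 39, 40] C [1, 2, 4, 8, 16, 32, 64, 128, 256, 512, 1024]).drop 78).take 39)) c32))) ((m m0 h0).pairs_of (base m0 h0 hb hc) (Model.via _ (mR m0 h0) (fun R => pairsB R [2, 20380, 6320, 1, 0] (((jvE [23, 24, 25, 26, 27, 28, 29] [30, 31, 32, 33, 34, 35, 36, 37, 38, 39, 40] C [1, 2, 4, 8, 16, 32, 64, 128, 256, 512, 1024]).drop 117).take 35)) c33))) ((m m0 h0).pairs_of (base m0 h0 hb hc) (Model.via _ (mR m0 h0) (fun R => pairsB R [2, 20380, 6320, 1, 0] (((jvE [23, 24, 25, 26, 27, 28, 29] [30, 31, 32, 33, 34, 35, 36, 37, 38, 39, 40] C [1, 2, 4, 8, 16, 32, 64, 128, 256, 512, 1024]).drop 152).take 24)) c34))) ((m m0 h0).pairs_of (base m0 h0 hb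 hc) (Model.via _ (mR m0 h0) (fun R => pairsB R [2, 20380, 6320, 1, 0] (((jvE [23, 24, 25, 26, 27, 28, 29] [30, 31, 32, 33, 34, 35, 36, 37, 38, 39, 40] C [1, 2, 4, 8, 16, 32, 64, 128, 256, 512, 1024]).drop 176).take 25)) c35))) ((m m0 h0).pairs_of (base m0 h0 hb hc) (Model.via _ (mR m0 h0) (fun R => pairsB R [2, 20380, 6320, 1, 0] (((jvE [23, 24, 25, 26, 27, 28, 29] [30, 31, 32, 33, 34, 35, 36, 37, 38, 39, 40] C [1, 2, 4, 8, 16, 32, 64, 128, 256, 512, 1024]).drop 201).take 19)) c36))) (by decide +kernel))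
omit h0 hb hc in
theorem i2 : ∀ k < 128, jvB 128 2048 8 4 [1, 2, 4, 8, 16, 32, 64, 128, 256, 512, 1024] ML 192912985115123766843304271563162988545 CM F k = true := (lt_step_all (a := 120) (k := 8) (lt_step_all (a := 112) (k := 8) (lt_step_all (a := 104) (k := 8) (lt_step_all (a := 96) (k := 8) (lt_step_all (a := 88) (k := 8) (lt_step_all (a := 80) (k := 8) (lt_step_all (a := 72) (k := 8) (lt_step_all (a := 64) (k := 8) (lt_step_all (a := 56) (k := 8) (lt_step_all (a := 48) (k := 8) (lt_step_all (a := 40) (k := 8) (lt_step_all (a := 32) (k := 8) (lt_step_all (a := 24) (k := 8) (lt_step_all (a := 16) (k := 8) (lt_step_all (a := 8) (k := 8) (lt_step_all (a := 0) (k := 8) (lt_zero_all _) (allN_spec c13)) (allN_spec c14)) (allN_spec c15)) (allN_spec c16)) (allN_spec c17)) (allN_spec c18)) (allN_spec c19)) (allN_spec c20)) (allN_spec c21)) (allN_spec c22)) (allN_spec c23)) (allN_spec c24))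 (allN_spec c25)) (allN_spec c26)) (allN_spec c27)) (allN_spec c28))
theorem i3 : ∀ e ∈ pcE 2 ([23, 24, 25, 26, 27, 28, 29] ++ [30, 31, 32, 33, 34, 35, 36, 37, 38, 39, 40]) sW, ev (m m0 h0).g e.1 = ev (m m0 h0).g e.2 := sE m0 h0 hb hc
omit hb hc in
theorem i4 : 2 ^ ([23, 24, 25, 26, 27, 28, 29] ++ [30, 31, 32, 33, 34, 35, 36, 37, 38, 39, 40]).length ≤ Nat.card (gl (m m0 h0).g ([23, 24, 25, 26, 27, 28, 29] ++ [30, 31, 32, 33, 34, 35, 36, 37, 38, 39, 40])) := slow m0 h0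
omit h0 hb hc in
theorem i5 : pcOK ([23, 24, 25, 26, 27, 28, 29] ++ [30, 31, 32, 33, 34, 35, 36, 37, 38, 39, 40]) sW = true := by decide +kernel
theorem res (T : Sylow 2 G) : (∀ A : Subgroup G, A ≤ T → (A.subgroupOf T).Normal → Cfsg.IsElementaryAbelian 2 A → Nat.card A ≤ 2 ^ 11) ∧
    ∃! A : Subgroup G, A ≤ T ∧ (A.subgroupOf T).Normal ∧ Cfsg.IsElementaryAbelian 2 A ∧ Nat.card A = 2 ^ 11 := by
  have i := jv_in (i1 m0 h0 hb hc) (by decide +kernel)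
  exact jv_syl (pcn_card two_pos (i3 m0 h0 hb hc) i5 (i4 m0 h0)) (by rw [hc]; decide +kernel)
    (gen_le fun w hw => mem_gen _ (List.map_append ▸ List.mem_append_right _ hw))
    ((by decide : 2048 = 2 ^ 11) ▸ jv (i3 m0 h0 hb hc) i5 (i4 m0 h0) i.1 i.2.1 i.2.2 (a := 8) (b := 4) rfl rfl (by decide) (by decide) (allN_spec c29) i2) T
end H0.EFi23J
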